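import Groth.Agent.Lib.KInj.Derived

/-! # The derived adjunction of an exact left adjoint -/

universe w w' v v' u u'

open CategoryTheory CategoryTheory.Limits HomologicalComplex HomotopyCategory

namespace GrothLib.KInj

variable {A : Type u} [Category.{v} A] [Abelian A] {B : Type u'} [Category.{v'} B] [Abelian B]
  {L : B ⥤ A} {G : A ⥤ B} (adj : L ⊣ G) [L.Additive] [G.Additive]

/-- An adjunction of additive functors induces one on complexes. -/
@[simps]
noncomputable def mapComplexAdj {ι : Type*} (c : ComplexShape ι) :
    L.mapHomologicalComplex c ⊣ G.mapHomologicalComplex c where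
  unit := { app := fun K => { f := fun n => adj.unit.app (K.X n)
                              comm' := fun i j _ => (adj.unit.naturality (K.d i j)).symm }
            naturality := fun K K' f => by ext n; exact adj.unit.naturality (f.f n) }
  counit := { app := fun K => { f := fun n => adj.counit.app (K.X n)
                                comm' := fun i j _ => (adj.counit.naturality (K.d i j)).symm }
              naturality := fun K K' f => by ext n; exact adj.counit.naturality (f.f n) }
  left_triangle_components K := by ext n; exact adj.left_triangle_components (K.X n)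
  right_triangle_components K := by ext n; exact adj.right_triangle_components (K.X n)

/-- An adjunction of additive functors induces one on homotopy categories. -/
noncomputable def mapHomotopyAdj :
    L.mapHomotopyCategory (ComplexShape.up ℤ) ⊣ G.mapHomotopyCategory (ComplexShape.up ℤ) where
  unit :=
    { app := fun K => (quotient B _).map ((mapComplexAdj adj (ComplexShape.up ℤ)).unit.app K.as)
      naturality := by
        rintro ⟨C⟩ ⟨D⟩ ⟨f : C ⟶ D⟩
        change (quotient B _).map f ≫ (quotient B _).map _ =
          (quotient B _).map _ ≫ (quotient B _).map _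
        rw [← Functor.map_comp, ← Functor.map_comp]
        exact congrArg _ ((mapComplexAdj adj (ComplexShape.up ℤ)).unit.naturality f) }
  counit :=
    { app := fun K => (quotient A _).map ((mapComplexAdj adj (ComplexShape.up ℤ)).counit.app K.as)
      naturality := by
        rintro ⟨C⟩ ⟨D⟩ ⟨f : C ⟶ D⟩
        change (quotient A _).map _ ≫ (quotient A _).map _ =
          (quotient A _).map _ ≫ (quotient A _).map f
        rw [← Functor.map_comp, ← Functor.map_comp]
        exact congrArg _ ((mapComplexAdj adj (ComplexShape.up ℤ)).counit.naturality f) }
  left_triangle_components K := by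
    change (quotient A _).map _ ≫ (quotient A _).map _ = _
    rw [← Functor.map_comp]
    exact (congrArg _ ((mapComplexAdj adj (ComplexShape.up ℤ)).left_triangle_components K.as)).trans
      ((quotient A _).map_id _)
  right_triangle_components K := by
    change (quotient B _).map _ ≫ (quotient B _).map _ = _
    rw [← Functor.map_comp]
    exact (congrArg _ ((mapComplexAdj adj (ComplexShape.up ℤ)).right_triangle_components K.as)).trans
      ((quotient B _).map_id _)

variable [PreservesFiniteLimits L] [PreservesFiniteColimits L]

include adj in
/-- A right adjoint with exact left adjoint preserves right orthogonals of acyclic complexes. -/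
theorem rightOrthogonal_map {X : HomotopyCategory A (ComplexShape.up ℤ)}
    (hX : (subcategoryAcyclic A).rightOrthogonal X) :
    (subcategoryAcyclic B).rightOrthogonal
      ((G.mapHomotopyCategory (ComplexShape.up ℤ)).obj X) := fun Z f hZ => by
  apply ((mapHomotopyAdj adj).homEquiv _ _).symm.injective
  have hLZ : subcategoryAcyclic A ((L.mapHomotopyCategory (ComplexShape.up ℤ)).obj Z) := by
    obtain ⟨K⟩ := Z
    change subcategoryAcyclic B ((quotient B _).obj K) at hZ
    change subcategoryAcyclic A ((quotient A _).obj ((L.mapHomologicalComplex _).obj K))
    rw [quotient_obj_mem_subcategoryAcyclic_iff_exactAt] at hZ ⊢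
    exact fun n => ShortComplex.Exact.map (hZ n) L
  exact (hX _ hLZ).trans (hX _ hLZ).symm

variable [IsGrothendieckAbelian.{v} A] [IsGrothendieckAbelian.{v'} B]
  [HasDerivedCategory.{w} A] [HasDerivedCategory.{w'} B]

/-- The derived adjunction. -/
noncomputable def derivedAdj :
    L.mapDerivedCategory ⊣
      res A ⋙ G.mapHomotopyCategory (ComplexShape.up ℤ) ⋙ DerivedCategory.Qh := by
  have hu : ∀ Y, IsIso ((resAdj B).unit.app
      ((G.mapHomotopyCategory (ComplexShape.up ℤ)).obj ((res A).obj Y))) := fun Y =>
    isIso_unit_of_rightOrthogonal (rightOrthogonal_map adj (rightOrthogonal_res Y))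
  exact Adjunction.restrictFullyFaithful (iC := res B) (iD := 𝟭 (DerivedCategory A))
    ((mapHomotopyAdj adj).comp (resAdj A))
    ((resAdj B).fullyFaithfulROfIsIsoCounit) (Functor.FullyFaithful.id _)
    ((Functor.isoWhiskerLeft _ L.mapDerivedCategoryFactorsh.symm) ≪≫
      (Functor.associator _ _ _).symm ≪≫
      Functor.isoWhiskerRight (asIso (resAdj B).counit) _ ≪≫ Functor.leftUnitor _ ≪≫
      (Functor.rightUnitor _).symm)
    (NatIso.ofComponents (fun Y => @asIso _ _ _ _ ((resAdj B).unit.app
        ((G.mapHomotopyCategory (ComplexShape.up ℤ)).obj ((res A).obj Y))) (hu Y))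
      (fun {Y Y'} f => (resAdj B).unit.naturality
        ((G.mapHomotopyCategory (ComplexShape.up ℤ)).map ((res A).map f))))

include adj in
/-- The total right derived functor of a right adjoint of an exact functor is right adjoint to
the exact functor on derived categories. -/
theorem nonempty_mapDerivedCategory_adj_totalRightDerived
    [(G.mapHomotopyCategory (ComplexShape.up ℤ) ⋙ DerivedCategory.Qh).HasRightDerivedFunctor
      (HomotopyCategory.quasiIso A (ComplexShape.up ℤ))] :
    Nonempty (L.mapDerivedCategory ⊣
      (G.mapHomotopyCategory (ComplexShape.up ℤ) ⋙ DerivedCategory.Qh).totalRightDerived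
        DerivedCategory.Qh (HomotopyCategory.quasiIso A (ComplexShape.up ℤ))) :=
  ⟨(derivedAdj adj).ofNatIsoRight (totalRightDerivedIso _).symm⟩

end GrothLib.KInj
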