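import Groth.Agent.Lib.KInj.Resolution
import Mathlib.Algebra.Homology.DerivedCategory.KInjective
import Mathlib.Algebra.Homology.DerivedCategory.ExactFunctor
import Mathlib.CategoryTheory.Adjunction.Restrict
import Mathlib.CategoryTheory.Adjunction.PartialAdjoint
import Mathlib.CategoryTheory.Adjunction.Whiskering
import Mathlib.CategoryTheory.Adjunction.Comma
import Mathlib.CategoryTheory.Functor.Derived.RightDerived

/-! # Right adjoint of the localization functor to the derived category; derived functors -/

universe w w' v v' v'' u u' u''

open CategoryTheory CategoryTheory.Limits HomologicalComplex HomotopyCategory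

namespace GrothLib.KInj

section General

/-- The counit of an adjunction whose left adjoint is a localization functor is an isomorphism. -/
theorem isIso_counit_of_isLocalization {C : Type u} [Category.{v} C] {D : Type u'} [Category.{v'} D]
    {L : C ⥤ D} {R : D ⥤ C} (adj : L ⊣ R) (W : MorphismProperty C) [L.IsLocalization W] :
    IsIso adj.counit := by
  let β : 𝟭 D ⟶ R ⋙ L := (Localization.fullyFaithfulWhiskeringLeft L W D).preimage
    { app := fun X => L.map (adj.unit.app X)
      naturality := fun X Y f => by
        change L.map f ≫ L.map (adj.unit.app Y) =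
          L.map (adj.unit.app X) ≫ L.map (R.map (L.map f))
        rw [← L.map_comp, ← L.map_comp]
        exact congrArg L.map (adj.unit.naturality f) }
  have hβ : ∀ X, β.app (L.obj X) = L.map (adj.unit.app X) := fun X => by
    have := ((Localization.fullyFaithfulWhiskeringLeft L W D).map_preimage
      (X := 𝟭 D) (Y := R ⋙ L)
      { app := fun X => L.map (adj.unit.app X)
        naturality := fun X Y f => by
          change L.map f ≫ L.map (adj.unit.app Y) =
            L.map (adj.unit.app X) ≫ L.map (R.map (L.map f))
          rw [← L.map_comp, ← L.map_comp]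
          exact congrArg L.map (adj.unit.naturality f) })
    exact congrArg (fun φ => φ.app X) this
  refine ⟨β, ?_, Localization.natTrans_ext L W fun X => ?_⟩
  · ext Y
    have h := β.naturality (adj.counit.app Y)
    dsimp at h ⊢
    rw [h, hβ, ← L.map_comp, adj.right_triangle_components]
    exact L.map_id _
  · simp [hβ]

/-- Precomposition with a right adjoint is a left Kan extension along the left adjoint. -/
theorem isLeftKanExtension_of_adjunction {C : Type u} [Category.{v} C] {D : Type u'}
    [Category.{v'} D] {E : Type u''} [Category.{v''} E] {L : C ⥤ D} {R : D ⥤ C} (adj : L ⊣ R)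
    (F : C ⥤ E) :
    (R ⋙ F).IsLeftKanExtension ((Adjunction.whiskerLeft E adj).unit.app F : F ⟶ L ⋙ R ⋙ F) :=
  ⟨⟨mkInitialOfLeftAdjoint _ (Adjunction.whiskerLeft E adj) F⟩⟩

end General

variable {A : Type u} [Category.{v} A] [Abelian A]

section KInjResolutions

variable [IsGrothendieckAbelian.{v} A] [HasDerivedCategory.{w} A]

/-- `Hom` into a K-injective complex in the derived category. -/
theorem isLeftAdjoint_Qh : (DerivedCategory.Qh (C := A)).IsLeftAdjoint := by
  refine Functor.isLeftAdjoint_of_rightAdjointObjIsDefined_eq_top (funext fun Y => ?_)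
  simp only [Pi.top_apply, Prop.top_eq_true, eq_iff_iff, iff_true]
  rw [Functor.rightAdjointObjIsDefined_iff]
  have := Localization.essSurj (DerivedCategory.Qh (C := A)) (subcategoryAcyclic A).trW
  let X := DerivedCategory.Qh.objPreimage Y
  obtain ⟨I, i, hi, hI, -⟩ := exists_kInjective_resolution A X.as
  have : IsIso (DerivedCategory.Qh.map ((quotient A (ComplexShape.up ℤ)).map i)) := by
    refine Localization.inverts DerivedCategory.Qh (HomotopyCategory.quasiIso A (ComplexShape.up ℤ)) _ ?_
    rwa [quotient_map_mem_quasiIso_iff, HomologicalComplex.mem_quasiIso_iff]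
  let e : DerivedCategory.Qh.obj ((quotient A (ComplexShape.up ℤ)).obj I) ≅ Y :=
    (asIso (DerivedCategory.Qh.map ((quotient A (ComplexShape.up ℤ)).map i))).symm ≪≫
      DerivedCategory.Qh.objObjPreimageIso Y
  have hb : ∀ Z, Function.Bijective (fun f : Z ⟶ (quotient A (ComplexShape.up ℤ)).obj I =>
      DerivedCategory.Qh.map f ≫ e.hom) := fun Z => by
    exact (Iso.homToEquiv e).bijective.comp (CochainComplex.IsKInjective.Qh_map_bijective Z I)
  exact Functor.RepresentableBy.isRepresentable
    { homEquiv := fun {Z} => Equiv.ofBijective _ (hb Z)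
      homEquiv_comp := fun {Z Z'} f g => by simp }

variable (A) in
/-- The functor of K-injective resolutions. -/
noncomputable def res : DerivedCategory A ⥤ HomotopyCategory A (ComplexShape.up ℤ) :=
  have := isLeftAdjoint_Qh (A := A)
  (DerivedCategory.Qh (C := A)).rightAdjoint

variable (A) in
/-- The localization functor is left adjoint to K-injective resolutions. -/
noncomputable def resAdj : DerivedCategory.Qh ⊣ res A :=
  have := isLeftAdjoint_Qh (A := A)
  Adjunction.ofIsLeftAdjoint (DerivedCategory.Qh (C := A))

instance : (res A).IsRightAdjoint := (resAdj A).isRightAdjoint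

instance isIso_resAdj_counit : IsIso (resAdj A).counit :=
  isIso_counit_of_isLocalization _ (subcategoryAcyclic A).trW

instance : (res A).Full := (resAdj A).fullyFaithfulROfIsIsoCounit.full

instance : (res A).Faithful := (resAdj A).fullyFaithfulROfIsIsoCounit.faithful

/-- The resolved objects are right orthogonal to acyclic complexes. -/
theorem rightOrthogonal_res (Y : DerivedCategory A) :
    (subcategoryAcyclic A).rightOrthogonal ((res A).obj Y) := fun Z f hZ => by
  have h0 : IsZero (DerivedCategory.Qh.obj Z) := by
    have hW := ObjectProperty.trW.mk (subcategoryAcyclic A)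
      (Pretriangulated.contractible_distinguished₁ Z) hZ
    have := Localization.inverts (DerivedCategory.Qh (C := A)) (subcategoryAcyclic A).trW _ hW
    exact IsZero.of_iso (DerivedCategory.Qh.map_isZero (isZero_zero _))
      (@asIso _ _ _ _ _ this).symm
  apply ((resAdj A).homEquiv Z Y).symm.injective
  exact h0.eq_of_src _ _

/-- The unit is an isomorphism exactly on right orthogonal objects. -/
theorem isIso_unit_of_rightOrthogonal {X : HomotopyCategory A (ComplexShape.up ℤ)}
    (hX : (subcategoryAcyclic A).rightOrthogonal X) : IsIso ((resAdj A).unit.app X) := by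
  let η := (resAdj A).unit.app X
  have hη : IsIso (DerivedCategory.Qh.map η) := by
    have : IsIso (DerivedCategory.Qh.map η ≫ (resAdj A).counit.app (DerivedCategory.Qh.obj X)) := by
      rw [show DerivedCategory.Qh.map η ≫ _ = 𝟙 _ from (resAdj A).left_triangle_components X]
      infer_instance
    exact IsIso.of_isIso_comp_right _ ((resAdj A).counit.app (DerivedCategory.Qh.obj X))
  obtain ⟨g, hg⟩ := (hX.map_bijective_of_isTriangulated DerivedCategory.Qh
    ((res A).obj (DerivedCategory.Qh.obj X))).2 (inv (DerivedCategory.Qh.map η))
  refine ⟨g, (hX.map_bijective_of_isTriangulated DerivedCategory.Qh X).1 ?_,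
    ((rightOrthogonal_res _).map_bijective_of_isTriangulated DerivedCategory.Qh _).1 ?_⟩
  · rw [CategoryTheory.Functor.map_comp, hg]
    exact (IsIso.hom_inv_id (DerivedCategory.Qh.map η)).trans (DerivedCategory.Qh.map_id _).symm
  · rw [CategoryTheory.Functor.map_comp, hg]
    exact (IsIso.inv_hom_id (DerivedCategory.Qh.map η)).trans (DerivedCategory.Qh.map_id _).symm

variable {E : Type u'} [Category.{v'} E] (F : HomotopyCategory A (ComplexShape.up ℤ) ⥤ E)

/-- The unit of the total right derived functor `res ⋙ F`. -/
noncomputable def derUnit : F ⟶ DerivedCategory.Qh ⋙ res A ⋙ F :=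
  (Adjunction.whiskerLeft E (resAdj A)).unit.app F

instance isRightDerivedFunctor_res :
    (res A ⋙ F).IsRightDerivedFunctor (derUnit F)
      (HomotopyCategory.quasiIso A (ComplexShape.up ℤ)) :=
  (Functor.isRightDerivedFunctor_iff_isLeftKanExtension _ _ _).2
    (isLeftKanExtension_of_adjunction (resAdj A) F)

theorem hasRightDerivedFunctor :
    F.HasRightDerivedFunctor (HomotopyCategory.quasiIso A (ComplexShape.up ℤ)) :=
  Functor.HasRightDerivedFunctor.mk' (W := HomotopyCategory.quasiIso A (ComplexShape.up ℤ))
    (res A ⋙ F) (derUnit F)

/-- The total right derived functor is computed by K-injective resolutions. -/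
noncomputable def totalRightDerivedIso
    [F.HasRightDerivedFunctor (HomotopyCategory.quasiIso A (ComplexShape.up ℤ))] :
    F.totalRightDerived DerivedCategory.Qh (HomotopyCategory.quasiIso A (ComplexShape.up ℤ)) ≅
      res A ⋙ F :=
  Functor.rightDerivedUnique _ _ (F.totalRightDerivedUnit DerivedCategory.Qh
    (HomotopyCategory.quasiIso A (ComplexShape.up ℤ))) (derUnit F)
    (HomotopyCategory.quasiIso A (ComplexShape.up ℤ))

@[reassoc]
theorem totalRightDerivedUnit_iso_hom
    [F.HasRightDerivedFunctor (HomotopyCategory.quasiIso A (ComplexShape.up ℤ))]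
    (X : HomotopyCategory A (ComplexShape.up ℤ)) :
    (F.totalRightDerivedUnit DerivedCategory.Qh
      (HomotopyCategory.quasiIso A (ComplexShape.up ℤ))).app X ≫
      (totalRightDerivedIso F).hom.app (DerivedCategory.Qh.obj X) =
        F.map ((resAdj A).unit.app X) := by
  simp [totalRightDerivedIso, Functor.rightDerivedUnique, Functor.rightDerivedNatIso, derUnit]

end KInjResolutions

end GrothLib.KInj
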