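import Groth.Agent.Lib.KInj.Criterion
import Mathlib.CategoryTheory.Abelian.GrothendieckCategory.EnoughInjectives
import Mathlib.Algebra.Homology.SingleHomology

/-! # Grothendieck abelian categories have enough K-injective complexes -/

universe v u

open CategoryTheory CategoryTheory.Limits HomologicalComplex CochainComplex ZeroObject

namespace GrothLib.KInj

variable {A : Type u} [Category.{v} A] [Abelian A] [IsGrothendieckAbelian.{v} A]

lemma rel_succ (n : ℤ) : (ComplexShape.up ℤ).Rel n (n + 1) := rfl

/-- The disc complex on `X` in degrees `n, n + 1`. -/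
noncomputable abbrev disc (X : A) (n : ℤ) : CochainComplex A ℤ := double (𝟙 X) (rel_succ n)

/-- Morphisms out of a disc. -/
noncomputable def discDesc {X : A} {n : ℤ} {K : CochainComplex A ℤ} (a : X ⟶ K.X n) : disc X n ⟶ K :=
  mkHomFromDouble (rel_succ n) (by omega) a (a ≫ K.d n (n + 1)) (by simp) (by simp)

lemma discDesc_f {X : A} {n : ℤ} {K : CochainComplex A ℤ} (a : X ⟶ K.X n) :
    (discDesc a).f n = (doubleXIso₀ _ (rel_succ n)).hom ≫ a := mkHomFromDouble_f₀ ..

lemma disc_hom_ext {X : A} {n : ℤ} {K : CochainComplex A ℤ} {φ φ' : disc X n ⟶ K}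
    (h : φ.f n = φ'.f n) : φ = φ' := by
  refine from_double_hom_ext h ?_
  have : IsIso ((disc X n).d n (n + 1)) := by
    rw [double_d _ _ (by omega)]; infer_instance
  rw [← cancel_epi ((disc X n).d n (n + 1)), ← φ.comm, ← φ'.comm, h]

variable (G : A)

/-- The generating disc inclusions. -/
noncomputable abbrev discMap (i : ℤ × Shrink.{v} (Subobject G)) :
    disc (Subobject.underlying.obj ((equivShrink (Subobject G)).symm i.2)) i.1 ⟶ disc G i.1 :=
  discDesc (((equivShrink (Subobject G)).symm i.2).arrow ≫ (doubleXIso₀ _ (rel_succ i.1)).inv)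

/-- The generating cone inclusions. -/
noncomputable abbrev coneMap (c : AIdx G) : cxObj G c.1 ⟶ mappingCone (𝟙 (cxObj G c.1)) :=
  mappingCone.inr (𝟙 (cxObj G c.1))

instance mono_discMap (i : ℤ × Shrink.{v} (Subobject G)) : Mono (discMap G i) := by
  obtain ⟨n, N⟩ := i
  refine @HomologicalComplex.mono_of_mono_f _ _ _ _ _ _ _ (discMap G (n, N)) fun k => ?_
  by_cases h : k = n
  · subst h
    show Mono ((discDesc _).f k)
    rw [discDesc_f]
    infer_instance
  · by_cases h' : k = n + 1
    · subst h'
      show Mono ((discDesc _).f (n + 1))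
      have : IsIso ((disc G n).d n (n + 1)) := by
        rw [double_d _ _ (by omega)]; infer_instance
      rw [discDesc, mkHomFromDouble_f₁]
      infer_instance
    · exact ⟨fun _ _ _ => (isZero_double_X _ _ k h h').eq_of_tgt _ _⟩

instance mono_coneMap (c : AIdx G) : Mono (coneMap G c) := by
  refine @HomologicalComplex.mono_of_mono_f _ _ _ _ _ _ _ (coneMap G c) fun k => ?_
  exact SplitMono.mono ⟨(mappingCone.snd (𝟙 (cxObj G c.1))).v k k (add_zero k),
    mappingCone.inr_f_snd_v _ _⟩

/-- The generating trivial cofibrations as a property of morphisms. -/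
abbrev gen : MorphismProperty (CochainComplex A ℤ) :=
  MorphismProperty.ofHoms (discMap G) ⊔ MorphismProperty.ofHoms (coneMap G)

lemma gen_le_monomorphisms : gen G ≤ MorphismProperty.monomorphisms _ := by
  rintro _ _ _ (⟨⟨i⟩⟩ | ⟨⟨c⟩⟩)
  · exact mono_discMap G i
  · exact mono_coneMap G c

instance : MorphismProperty.IsSmall.{v} (gen G) := by
  have h₁ : MorphismProperty.IsSmall.{v} (MorphismProperty.ofHoms (discMap G)) := inferInstance
  have h₂ : MorphismProperty.IsSmall.{v} (MorphismProperty.ofHoms (coneMap G)) := inferInstance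
  have := h₁.small_toSet
  have := h₂.small_toSet
  constructor
  have e : (gen G).toSet =
      (MorphismProperty.ofHoms (discMap G)).toSet ∪ (MorphismProperty.ofHoms (coneMap G)).toSet := rfl
  rw [e]
  infer_instance

instance : MorphismProperty.HasSmallObjectArgument.{v} (gen G) := by
  obtain ⟨κ, hκ', hκ⟩ := HasCardinalLT.exists_regular_cardinal.{v}
    ((Σ i : ℤ × Shrink.{v} (Subobject G), Subobject (disc (Subobject.underlying.obj
      ((equivShrink (Subobject G)).symm i.2)) i.1)) ⊕ (Σ c : AIdx G, Subobject (cxObj G c.1)))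
  have : Fact κ.IsRegular := ⟨hκ'⟩
  have : Nonempty κ.ord.ToType := by simpa using hκ'.ne_zero
  have := WellFoundedLT.toOrderBot κ.ord.ToType
  exact ⟨κ, inferInstance, inferInstance,
    { preservesColimit {X Y X' Y'} i hi f hf := by
        let hf' : (MorphismProperty.monomorphisms _).TransfiniteCompositionOfShape κ.ord.ToType f :=
          { toTransfiniteCompositionOfShape := hf.toTransfiniteCompositionOfShape
            map_mem j hj := by
              have := (hf.attachCells j hj).pushouts_coproducts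
              simp only [MorphismProperty.ofHoms_homFamily] at this
              refine (?_ : _ ≤ MorphismProperty.monomorphisms _) _ this
              simp only [MorphismProperty.pushouts_le_iff, MorphismProperty.coproducts_le_iff]
              exact gen_le_monomorphisms G }
        have (j j' : κ.ord.ToType) (φ : j ⟶ j') : Mono (hf'.F.map φ) := hf'.mem_map φ
        apply IsGrothendieckAbelian.preservesColimit_coyoneda_obj_of_mono (Y := hf'.F) (κ := κ)
        obtain ⟨⟨k⟩⟩ | ⟨⟨k⟩⟩ := hi
        · exact hκ.of_injective (fun s => Sum.inl ⟨k, s⟩) fun a b h => by simpa using h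
        · exact hκ.of_injective (fun s => Sum.inr ⟨k, s⟩) fun a b h => by simpa using h }⟩

variable {G}

/-- Extension property against a K-injective complex of injectives. -/
lemma hasLift_to_zero {K O : CochainComplex A ℤ} (hO : IsZero O) (p : K ⟶ O)
    [∀ n, Injective (K.X n)] [K.IsKInjective] : (gen G).rlp p := by
  have key : ∀ {S T : CochainComplex A ℤ} (g : S ⟶ T),
      (∀ t : S ⟶ K, ∃ l, g ≫ l = t) → HasLiftingProperty g p := fun g hg =>
    ⟨fun {t b} sq => by
      obtain ⟨l, hl⟩ := hg t
      exact ⟨⟨⟨l, hl, hO.eq_of_tgt _ _⟩⟩⟩⟩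
  rintro _ _ _ (⟨⟨i⟩⟩ | ⟨⟨c⟩⟩)
  · refine key _ fun t => ?_
    obtain ⟨n, N⟩ := i
    let N' : Subobject G := (equivShrink _).symm N
    let a : (N' : A) ⟶ K.X n := (doubleXIso₀ _ (rel_succ n)).inv ≫ t.f n
    refine ⟨discDesc (Injective.factorThru a N'.arrow), disc_hom_ext ?_⟩
    show (discDesc _).f n ≫ (discDesc _).f n = _
    rw [discDesc_f, discDesc_f]
    simp [a, N']
  · refine key _ fun t => ?_
    obtain ⟨h⟩ := IsKInjective.nonempty_homotopy_zero (L := K) t c.2
    obtain ⟨β, hβ⟩ := HomComplex.Cochain.equivHomotopy _ _ h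
    exact ⟨mappingCone.desc (𝟙 (cxObj G c.1)) β t (by simpa using hβ.symm),
      mappingCone.inr_desc _ _ _ _⟩

/-- Lifting property against the path fibrations of K-injective complexes of injectives. -/
lemma hasLift_pathFib_gen {J : CochainComplex A ℤ} [∀ n, Injective (J.X n)] [J.IsKInjective] :
    (gen G).rlp (pathFib J) := by
  rintro _ _ _ (⟨⟨i⟩⟩ | ⟨⟨c⟩⟩)
  · refine ⟨fun {t b} sq => ?_⟩
    obtain ⟨n, N⟩ := i
    let N' : Subobject G := (equivShrink _).symm N
    have hs : CommSq ((doubleXIso₀ _ (rel_succ n)).inv ≫ t.f n) N'.arrow ((pathFib J).f n)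
        ((doubleXIso₀ _ (rel_succ n)).inv ≫ b.f n) := ⟨by
      have := congrArg (fun φ => φ.f n) sq.w
      have e : (discMap G (n, N)).f n = (doubleXIso₀ _ (rel_succ n)).hom ≫
          N'.arrow ≫ (doubleXIso₀ _ (rel_succ n)).inv := discDesc_f _
      simp only [HomologicalComplex.comp_f] at this
      rw [e] at this
      rw [Category.assoc, this]
      simp [N']⟩
    have := (hasLift_eval_pathFib (J := J) n N'.arrow).sq_hasLift hs
    refine ⟨⟨⟨discDesc hs.lift, disc_hom_ext ?_, disc_hom_ext ?_⟩⟩⟩
    · show (discDesc _).f n ≫ (discDesc _).f n = _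
      rw [discDesc_f, discDesc_f]
      simp [N']
    · show (discDesc _).f n ≫ (pathFib J).f n = _
      rw [discDesc_f, Category.assoc, hs.fac_right, Iso.hom_inv_id_assoc]
  · let i := mappingCone.inr (𝟙 (cxObj G c.1))
    have : Mono i := mono_coneMap G c
    have hse : (ShortComplex.mk _ _ (cokernel.condition i)).ShortExact :=
      { exact := ShortComplex.exact_cokernel i }
    have hcone : (mappingCone (𝟙 (cxObj G c.1))).Acyclic := fun k => by
      rw [exactAt_iff_isZero_homology]
      refine (IsZero.iff_id_eq_zero _).2 ?_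
      rw [← homologyMap_id, (mappingCone.homotopyToZeroOfId (cxObj G c.1)).homologyMap_eq k,
        homologyMap_zero]
    exact hasLift_pathFib i _ (cokernel.condition i) hse.gIsCokernel fun f =>
      IsKInjective.nonempty_homotopy_zero f (DerCat.acyclic_X₃ hse c.2 hcone)

/-- Fibrant objects for the generating trivial cofibrations have injective terms. -/
lemma injective_of_rlp (hG : IsSeparator G) {I O : CochainComplex A ℤ} (hO : IsZero O) (p : I ⟶ O)
    (hp : (gen G).rlp p) (n : ℤ) : Injective (I.X n) := by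
  rw [injective_iff_rlp_monomorphisms_zero, ← IsGrothendieckAbelian.generatingMonomorphisms_rlp hG]
  rintro _ _ _ ⟨N⟩
  refine ⟨fun {t b} sq => ?_⟩
  have hlp := hp _ (Or.inl (MorphismProperty.ofHoms.mk (f := discMap G) (n, equivShrink _ N)))
  let N' : Subobject G := (equivShrink _).symm (equivShrink.{v} _ N)
  have hN : N' = N := Equiv.symm_apply_apply _ _
  suffices ∃ l, N'.arrow ≫ l = eqToHom (by rw [hN]) ≫ t by
    obtain ⟨l, hl⟩ := this
    refine ⟨⟨⟨l, ?_, Subsingleton.elim _ _⟩⟩⟩
    clear_value N'
    subst hN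
    simpa using hl
  let t' : disc (N' : A) n ⟶ I := discDesc (eqToHom (by rw [hN]) ≫ t)
  have sq' : CommSq t' (discMap G (n, equivShrink _ N)) p 0 := ⟨hO.eq_of_tgt _ _⟩
  have := hlp.sq_hasLift sq'
  refine ⟨(doubleXIso₀ _ (rel_succ n)).inv ≫ sq'.lift.f n, ?_⟩
  have e := congrArg (fun φ => (doubleXIso₀ _ (rel_succ n)).inv ≫ φ.f n) sq'.fac_left
  have e2 : (discMap G (n, equivShrink _ N)).f n = (doubleXIso₀ _ (rel_succ n)).hom ≫
      N'.arrow ≫ (doubleXIso₀ _ (rel_succ n)).inv := discDesc_f _
  simp only [HomologicalComplex.comp_f, t', discDesc_f] at e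
  simpa using e

/-- Fibrant objects for the generating trivial cofibrations are K-injective. -/
lemma isKInjective_of_rlp (hG : IsSeparator G) {I O : CochainComplex A ℤ} (hO : IsZero O)
    (p : I ⟶ O) (hp : (gen G).rlp p) : I.IsKInjective where
  nonempty_homotopy_zero {Z} f hZ := by
    have hnull : ∀ (c : AIdx G) (g : cxObj G c.1 ⟶ I), Nonempty (Homotopy g 0) := fun c g => by
      have hlp : HasLiftingProperty (coneMap G c) p :=
        hp _ (Or.inr (MorphismProperty.ofHoms.mk (f := coneMap G) c))
      have sq : CommSq g (coneMap G c) p 0 := ⟨hO.eq_of_tgt _ _⟩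
      have := hlp.sq_hasLift sq
      exact ⟨(Homotopy.ofEq (show g = coneMap G c ≫ 𝟙 _ ≫ sq.lift by simp)).trans
        ((((mappingCone.homotopyToZeroOfId (cxObj G c.1)).compRight sq.lift).compLeft _).trans
          (Homotopy.ofEq (by simp)))⟩
    let J := I⟦(-1 : ℤ)⟧
    have : ∀ n, Injective (J.X n) := fun n => injective_of_rlp hG hO p hp _
    let e : J⟦(1 : ℤ)⟧ ≅ I := (shiftFunctorCompIsoId _ (-1 : ℤ) 1 (by omega)).app I
    obtain ⟨H⟩ := nonempty_homotopy_zero_of_family hG (J := J)
      (fun c g => (hnull c (g ≫ e.hom)).map fun H =>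
        (Homotopy.ofEq (by simp)).trans ((H.compRight e.inv).trans (Homotopy.ofEq (by simp))))
      hZ (f ≫ e.inv)
    exact ⟨(Homotopy.ofEq (by simp)).trans ((H.compRight e.hom).trans (Homotopy.ofEq (by simp)))⟩

/-- The functional on homology attached to a morphism to a single complex. -/
noncomputable def hom' {C : CochainComplex A ℤ} {E : A} {n : ℤ}
    (g : C ⟶ (single A (ComplexShape.up ℤ) n).obj E) : C.homology n ⟶ E :=
  homologyMap g n ≫ (singleObjHomologySelfIso (ComplexShape.up ℤ) n E).hom

lemma homologyπ_hom' {C : CochainComplex A ℤ} {E : A} {n : ℤ}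
    (g : C ⟶ (single A (ComplexShape.up ℤ) n).obj E) :
    C.homologyπ n ≫ hom' g = C.iCycles n ≫ g.f n ≫ (singleObjXSelf _ n E).hom := by
  rw [hom', homologyπ_naturality_assoc, homologyπ_singleObjHomologySelfIso_hom,
    singleObjCyclesSelfIso_hom, cyclesMap_i_assoc]

lemma hom'_comp {C D : CochainComplex A ℤ} {E : A} {n : ℤ} (i : C ⟶ D)
    (g : D ⟶ (single A (ComplexShape.up ℤ) n).obj E) :
    hom' (i ≫ g) = homologyMap i n ≫ hom' g := by
  simp [hom', homologyMap_comp]

lemma exists_hom'_eq {C : CochainComplex A ℤ} {E : A} [Injective E] {n : ℤ}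
    (φ : C.homology n ⟶ E) :
    ∃ g : C ⟶ (single A (ComplexShape.up ℤ) n).obj E, hom' g = φ := by
  let e := Injective.factorThru φ (C.homologyι n)
  refine ⟨mkHomToSingle (C.pOpcycles n ≫ e) (fun i _ => by simp), ?_⟩
  rw [← cancel_epi (C.homologyπ n), homologyπ_hom']
  simp [e]
  rw [← homology_π_ι_assoc, Injective.comp_factorThru]

lemma nonempty_homotopy_of_hom'_eq_zero {C : CochainComplex A ℤ} {E : A} [Injective E] {n : ℤ}
    (g : C ⟶ (single A (ComplexShape.up ℤ) n).obj E) (h : hom' g = 0) :
    Nonempty (Homotopy g 0) := by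
  have h0 : C.iCycles n ≫ g.f n = 0 := by
    rw [← cancel_mono (singleObjXSelf _ n E).hom, zero_comp, Category.assoc, ← homologyπ_hom', h,
      comp_zero]
  have hex : (ShortComplex.mk (C.iCycles n) (C.d n (n + 1)) (C.iCycles_d n (n + 1))).Exact :=
    ShortComplex.exact_of_f_is_kernel _ (C.cyclesIsKernel n (n + 1) (by simp))
  let s := hex.descToInjective (g.f n) h0
  let hh : ∀ i j, (ComplexShape.up ℤ).Rel j i →
      (C.X i ⟶ ((single A (ComplexShape.up ℤ) n).obj E).X j) := fun i j hij =>
    if hj : j = n then eqToHom (by simp at hij; rw [← hij, hj]) ≫ s ≫ eqToHom (by rw [hj]) else 0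
  have e : g = Homotopy.nullHomotopicMap' hh := by
    apply to_single_hom_ext
    rw [Homotopy.nullHomotopicMap'_f (k₂ := n - 1) (k₁ := n) (k₀ := n + 1) (by simp) (by simp)]
    simp only [single_obj_d, comp_zero, add_zero]
    simp only [hh, dif_pos, eqToHom_refl, Category.id_comp, Category.comp_id]
    exact (hex.comp_descToInjective (g.f n) h0).symm
  exact ⟨(Homotopy.ofEq e).trans (Homotopy.nullHomotopy' hh)⟩

/-- Morphisms with the left lifting property against the fibrations are quasi-isomorphisms. -/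
lemma quasiIso_of_llp {C D : CochainComplex A ℤ} (i : C ⟶ D) (hi : (gen G).rlp.llp i) :
    QuasiIso i := by
  refine ⟨fun n => ?_⟩
  rw [quasiIsoAt_iff_isIso_homologyMap]
  have hK : ∀ (E : A) [Injective E] (m k : ℤ),
      Injective (((single A (ComplexShape.up ℤ) m).obj E).X k) := fun E _ m k => by
    by_cases h : k = m
    · subst h; exact Injective.of_iso (singleObjXSelf _ _ _).symm inferInstance
    · exact (isZero_single_obj_X _ _ _ _ h).injective
  have hmono : Mono (homologyMap i n) := by
    obtain ⟨g, hg⟩ := exists_hom'_eq (Injective.ι (C.homology n))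
    let K : CochainComplex A ℤ := (single A (ComplexShape.up ℤ) n).obj (Injective.under (C.homology n))
    have : ∀ k, Injective (K.X k) := hK _ n
    have : K.IsKInjective := CochainComplex.isKInjective_of_injective K n
    have := hi (0 : K ⟶ 0) (hasLift_to_zero (isZero_zero _) _)
    have sq : CommSq g i (0 : K ⟶ 0) 0 := ⟨by simp⟩
    exact mono_of_mono_fac (show homologyMap i n ≫ hom' sq.lift = Injective.ι _ by
      rw [← hom'_comp, sq.fac_left, hg])
  have hepi : Epi (homologyMap i n) := Preadditive.epi_of_cancel_zero _ fun {W} ψ hψ => by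
    rw [← cancel_mono (Injective.ι W), zero_comp]
    obtain ⟨g, hg⟩ := exists_hom'_eq (ψ ≫ Injective.ι W)
    obtain ⟨H⟩ := nonempty_homotopy_of_hom'_eq_zero (i ≫ g)
      (by rw [hom'_comp, hg, reassoc_of% hψ, zero_comp])
    let K : CochainComplex A ℤ := (single A (ComplexShape.up ℤ) n).obj (Injective.under W)
    let J := K⟦(-1 : ℤ)⟧
    have : ∀ k, Injective (J.X k) := fun k => hK _ _ _
    have : K.IsKInjective :=
      have : ∀ k, Injective (K.X k) := hK _ n
      CochainComplex.isKInjective_of_injective K n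
    let e : J⟦(1 : ℤ)⟧ ≅ K := (shiftFunctorCompIsoId _ (-1 : ℤ) 1 (by omega)).app K
    obtain ⟨l, hl⟩ := exists_lift_of_homotopy ((i ≫ g) ≫ e.inv)
      ((H.compRight e.inv).trans (Homotopy.ofEq (by simp)))
    have := hi (pathFib J) hasLift_pathFib_gen
    have sq : CommSq l i (pathFib J) (g ≫ e.inv) := ⟨by rw [hl, Category.assoc]⟩
    obtain ⟨H'⟩ := homotopy_of_lift sq.lift sq.fac_right
    have H'' : Homotopy g 0 := (Homotopy.ofEq (by simp)).trans
      ((H'.compRight e.hom).trans (Homotopy.ofEq (by simp)))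
    rw [← hg, hom', H''.homologyMap_eq n, homologyMap_zero, zero_comp]
  exact isIso_of_mono_of_epi _

variable (A) in
/-- A Grothendieck abelian category has enough K-injective complexes (with injective terms). -/
theorem exists_kInjective_resolution (C : CochainComplex A ℤ) :
    ∃ (I : CochainComplex A ℤ) (i : C ⟶ I), QuasiIso i ∧ I.IsKInjective ∧
      ∀ n, Injective (I.X n) := by
  let G := separator A
  have hG : IsSeparator G := isSeparator_separator A
  let fac := MorphismProperty.factorizationData (gen G).rlp.llp (gen G).rlp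
    (0 : C ⟶ (0 : CochainComplex A ℤ))
  exact ⟨fac.Z, fac.i, quasiIso_of_llp _ fac.hi,
    isKInjective_of_rlp hG (isZero_zero _) fac.p fac.hp,
    injective_of_rlp hG (isZero_zero _) fac.p fac.hp⟩

end GrothLib.KInj
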