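import Mathlib.Algebra.Category.ModuleCat.Sheaf.Abelian
import Mathlib.Algebra.Category.ModuleCat.Sheaf.Colimits
import Mathlib.Algebra.Category.ModuleCat.Presheaf.Generator
import Mathlib.Algebra.Category.ModuleCat.AB
import Mathlib.Algebra.Category.Grp.AB
import Mathlib.CategoryTheory.Abelian.GrothendieckAxioms.Basic
import Mathlib.CategoryTheory.Abelian.GrothendieckCategory.Basic
import Groth.Prelude.Def_ModSite

/-! # Sheaves of modules on a small ringed site form a Grothendieck abelian category -/

universe u

open CategoryTheory CategoryTheory.Limits Opposite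

namespace GrothLib.KInj

variable {C : Type u} [SmallCategory C]

instance (R : Cᵒᵖ ⥤ RingCat.{u}) : AB5 (PresheafOfModules.{u} R) where
  ofShape J _ _ := HasExactColimitsOfShape.domain_of_functor J (PresheafOfModules.toPresheaf R)

variable {J : GrothendieckTopology C} (R : Sheaf J RingCat.{u})

theorem ab5_sheafOfModules : AB5 (SheafOfModules.{u} R) where
  ofShape K _ _ :=
    (PresheafOfModules.sheafificationAdjunction (𝟙 R.obj)).hasExactColimitsOfShape K

theorem hasSeparator_sheafOfModules : HasSeparator (SheafOfModules.{u} R) := by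
  let a := PresheafOfModules.sheafification.{u} (𝟙 R.obj)
  let adj := PresheafOfModules.sheafificationAdjunction.{u} (𝟙 R.obj)
  let f : C → SheafOfModules.{u} R := fun X =>
    a.obj ((PresheafOfModules.free R.obj).obj (yoneda.obj X))
  refine ⟨∐ f, (isSeparator_sigma f).2 ?_⟩
  intro M N g₁ g₂ h
  apply (SheafOfModules.forget R ⋙ PresheafOfModules.restrictScalars (𝟙 R.obj)).map_injective
  refine PresheafOfModules.freeYoneda.isSeparating R.obj _ _ fun G hG k => ?_
  obtain ⟨X⟩ := hG
  have := congrArg (adj.homEquiv _ _) (h (f X) ⟨X⟩ ((adj.homEquiv _ _).symm k))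
  simpa [Adjunction.homEquiv_naturality_right] using this

instance isGrothendieckAbelian_sheafOfModules :
    IsGrothendieckAbelian.{u} (SheafOfModules.{u} R) where
  ab5OfSize := ab5_sheafOfModules R
  hasSeparator := hasSeparator_sheafOfModules R

instance isGrothendieckAbelian_mod (O : Sheaf J CommRingCat.{u}) :
    IsGrothendieckAbelian.{u} (ModSite.Mod O) :=
  isGrothendieckAbelian_sheafOfModules (ModSite.ringSh O)

example (O : Sheaf J CommRingCat.{u}) : HasInjectiveResolutions (ModSite.Mod O) := inferInstance

end GrothLib.KInj
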