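import Groth.Agent.Lib.KInj.Small

/-! # The small set of acyclic complexes with good terms -/

universe v u

open CategoryTheory CategoryTheory.Limits HomologicalComplex ZeroObject

namespace GrothLib.KInj

variable {A : Type u} [Category.{v} A] [Abelian A] [IsGrothendieckAbelian.{v} A] (G : A)

/-- Index of good objects up to isomorphism. -/
abbrev GIdx : Type v := Option (Σ k : ℕ, Shrink.{v} (Subobject (T G k)))

/-- The good object of given index. -/
noncomputable def gObj : GIdx G → A
  | none => 0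
  | some ⟨_, N⟩ => cokernel ((equivShrink _).symm N).arrow

lemma exists_gObj {X : A} (h : Good G X) : ∃ i, Nonempty (gObj G i ≅ X) := by
  rcases h with h | ⟨k, q, hq⟩
  · exact ⟨none, show Nonempty ((0 : A) ≅ X) from ⟨h.isoZero.symm⟩⟩
  · refine ⟨some ⟨k, equivShrink _ (kernelSubobject q)⟩, ⟨?_⟩⟩
    have e : gObj G (some ⟨k, equivShrink _ (kernelSubobject q)⟩) =
        cokernel (kernelSubobject q).arrow := by
      show cokernel ((equivShrink _).symm (equivShrink _ (kernelSubobject q))).arrow = _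
      rw [Equiv.symm_apply_apply]
    exact eqToIso e ≪≫ cokernel.mapIso _ (kernel.ι q) (kernelSubobjectIso q) (Iso.refl _) (by simp) ≪≫
      IsColimit.coconePointUniqueUpToIso (cokernelIsCokernel (kernel.ι q))
        (Abelian.epiIsCokernelOfKernel _ (limit.isLimit (parallelPair q 0)))

/-- Index of complexes with good terms. -/
abbrev CIdx : Type v :=
  { p : Σ n : ℤ → GIdx G, ∀ i j : ℤ, gObj G (n i) ⟶ gObj G (n j) //
    (∀ i j, ¬ (ComplexShape.up ℤ).Rel i j → p.2 i j = 0) ∧ ∀ i j k, p.2 i j ≫ p.2 j k = 0 }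

/-- The complex of given index. -/
@[simps]
noncomputable def cxObj (c : CIdx G) : CochainComplex A ℤ where
  X n := gObj G (c.1.1 n)
  d := c.1.2
  shape := c.2.1
  d_comp_d' i j k _ _ := c.2.2 i j k

lemma exists_cxObj {S : CochainComplex A ℤ} (h : ∀ n, Good G (S.X n)) :
    ∃ c, Nonempty (cxObj G c ≅ S) := by
  choose n e using fun k => exists_gObj G (h k)
  let φ := fun k => (e k).some
  exact ⟨⟨⟨n, fun i j => (φ i).hom ≫ S.d i j ≫ (φ j).inv⟩,
      fun i j hij => by simp [S.shape i j hij], fun i j k => by simp⟩,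
    ⟨HomologicalComplex.Hom.isoOfComponents φ (fun i j _ => by
      change _ = ((φ i).hom ≫ S.d i j ≫ (φ j).inv) ≫ (φ j).hom
      simp only [Category.assoc, Iso.inv_hom_id, Category.comp_id]; rfl)⟩⟩

/-- Index of acyclic complexes with good terms. -/
abbrev AIdx : Type v := { c : CIdx G // (cxObj G c).Acyclic }

variable {G}

/-- Every nonzero acyclic complex contains a nonzero member of the small family. -/
lemma exists_mono_from_family (hG : IsSeparator G) (Z : CochainComplex A ℤ) (hZ : Z.Acyclic)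
    (h0 : ¬ IsZero Z) :
    ∃ (c : AIdx G) (ι : cxObj G c.1 ⟶ Z), Mono ι ∧ ¬ IsZero (cxObj G c.1) := by
  obtain ⟨S, ι, hι, hS, hS0, hgood⟩ := exists_small_acyclic_sub hG Z hZ h0
  obtain ⟨c, ⟨e⟩⟩ := exists_cxObj G hgood
  refine ⟨⟨c, fun n => (hS n).of_iso e.symm⟩, e.hom ≫ ι, mono_comp _ _,
    fun h => hS0 (h.of_iso e.symm)⟩

end GrothLib.KInj
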