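import Groth.Agent.Lib.KInj.Lifting
import Groth.Agent.Lib.KInj.Family
import Groth.Agent.Lib.DerCat.Acyclic
import Mathlib.Algebra.Homology.GrothendieckAbelian
import Mathlib.CategoryTheory.Abelian.GrothendieckAxioms.Colim
import Mathlib.CategoryTheory.Abelian.GrothendieckCategory.Subobject
import Mathlib.CategoryTheory.SmallObject.TransfiniteCompositionLifting
import Mathlib.CategoryTheory.Subobject.HasCardinalLT
import Mathlib.Order.TransfiniteIteration

/-! # A small criterion for K-injectivity -/

universe v u

open CategoryTheory CategoryTheory.Limits HomologicalComplex CochainComplex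

namespace GrothLib.KInj

variable {A : Type u} [Category.{v} A] [Abelian A]

/-- A cocone degreewise colimit of acyclic complexes over a filtered category is acyclic. -/
lemma acyclic_of_isColimit {J : Type v} [SmallCategory J] [HasColimitsOfShape J A]
    [HasExactColimitsOfShape J A] {F : J ⥤ CochainComplex A ℤ} {c : Cocone F} (hc : IsColimit c)
    (h : ∀ j, (F.obj j).Acyclic) : HomologicalComplex.Acyclic c.pt := fun i => by
  let sh := ComplexShape.up ℤ
  rw [c.pt.exactAt_iff' (i - 1) i (i + 1) (by simp) (by simp)]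
  let d : ∀ k k', F ⋙ eval A sh k ⟶ F ⋙ eval A sh k' := fun k k' =>
    { app := fun j => (F.obj j).d k k'
      naturality := fun _ _ φ => (F.map φ).comm k k' }
  let S : ShortComplex (J ⥤ A) :=
    ShortComplex.mk (d (i - 1) i) (d i (i + 1)) (by ext j; exact (F.obj j).d_comp_d _ _ _)
  have hS : S.Exact := by
    rw [S.exact_iff_isZero_homology, Functor.isZero_iff]
    intro j
    have hj := ((F.obj j).exactAt_iff' (i - 1) i (i + 1) (by simp) (by simp)).1 (h j i)
    exact ((ShortComplex.exact_iff_isZero_homology _).1 hj).of_iso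
      (S.mapHomologyIso ((evaluation J A).obj j)).symm
  exact colim.exact_mapShortComplex hS
    (isColimitOfPreserves (eval A sh (i - 1)) hc) (isColimitOfPreserves (eval A sh i) hc)
    (isColimitOfPreserves (eval A sh (i + 1)) hc) (c.pt.d (i - 1) i) (c.pt.d i (i + 1))
    (fun j => (c.ι.app j).comm _ _) (fun j => (c.ι.app j).comm _ _)

lemma acyclic_of_isZero {K : CochainComplex A ℤ} (h : IsZero K) : K.Acyclic :=
  fun i => ShortComplex.exact_of_isZero_X₂ _ ((eval A _ i).map_isZero h)

variable [IsGrothendieckAbelian.{v} A] {G : A} (hG : IsSeparator G)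
  {J : CochainComplex A ℤ} [∀ n, Injective (J.X n)]
  (hJ : ∀ (c : AIdx G) (f : cxObj G c.1 ⟶ J⟦(1 : ℤ)⟧), Nonempty (Homotopy f 0))
  {Z : CochainComplex A ℤ} (hZ : Z.Acyclic)

include hG hJ hZ in
lemma exists_larger_acyclic (N : Subobject Z) (hN : HomologicalComplex.Acyclic (N : CochainComplex A ℤ))
    (h : N ≠ ⊤) :
    ∃ (N' : Subobject Z) (hlt : N < N'), HomologicalComplex.Acyclic (N' : CochainComplex A ℤ) ∧
      HasLiftingProperty (N.ofLE N' hlt.le) (pathFib J) := by
  have hseq : (ShortComplex.mk _ _ (cokernel.condition N.arrow)).ShortExact :=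
    { exact := ShortComplex.exact_cokernel N.arrow }
  have hQ : (cokernel N.arrow).Acyclic := DerCat.acyclic_X₃ hseq hN hZ
  have h0 : ¬ IsZero (cokernel N.arrow) := fun hz => h <| by
    have : Epi N.arrow := Abelian.epi_of_cokernel_π_eq_zero _ (hz.eq_of_tgt _ _)
    have : IsIso N.arrow := isIso_of_mono_of_epi _
    exact (Subobject.isIso_arrow_iff_eq_top N).1 this
  obtain ⟨c, ι, hι, hc0⟩ := exists_mono_from_family hG _ hQ h0
  let π := cokernel.π N.arrow
  let l : (N : CochainComplex A ℤ) ⟶ pullback π ι := pullback.lift N.arrow 0 (by simp [π])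
  have hl : l ≫ pullback.fst π ι = N.arrow := pullback.lift_fst _ _ _
  have hl' : l ≫ pullback.snd π ι = 0 := pullback.lift_snd _ _ _
  have : Mono l := mono_of_mono_fac hl
  have hk : IsLimit (KernelFork.ofι l hl') := by
    refine KernelFork.IsLimit.ofι' l hl' fun k hk => ?_
    have hk' : (k ≫ pullback.fst π ι) ≫ π = 0 := by
      rw [Category.assoc, pullback.condition, reassoc_of% hk, zero_comp]
    refine ⟨Abelian.monoLift N.arrow (k ≫ pullback.fst π ι) hk', ?_⟩
    apply pullback.hom_ext
    · rw [Category.assoc, hl, Abelian.monoLift_comp]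
    · rw [Category.assoc, hl', comp_zero, hk]
  have hse : (ShortComplex.mk l (pullback.snd π ι) hl').ShortExact :=
    { exact := ShortComplex.exact_of_f_is_kernel _ hk
      epi_g := inferInstanceAs (Epi (pullback.snd π ι)) }
  have hP : (pullback π ι).Acyclic := DerCat.acyclic_X₂ hse hN c.2
  have hlp : HasLiftingProperty l (pathFib J) :=
    hasLift_pathFib l _ hl' hse.gIsCokernel (hJ c)
  let N' := Subobject.mk (pullback.fst π ι)
  have hle : N ≤ N' := Subobject.le_mk_of_comm l hl
  have hne : N ≠ N' := fun e => hc0 <| by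
    have : Epi l := by
      have : IsIso (N.ofLEMk _ hle) := ⟨Subobject.ofMkLE _ N e.ge, by simp, by simp⟩
      rw [show l = N.ofLEMk _ hle by
        rw [← cancel_mono (pullback.fst π ι), hl, Subobject.ofLEMk_comp]]
      infer_instance
    rw [IsZero.iff_id_eq_zero, ← cancel_epi (pullback.snd π ι), ← cancel_epi l]
    simp [hl']
  refine ⟨N', lt_of_le_of_ne hle hne, fun i => (hP i).of_iso (Subobject.underlyingIso _).symm, ?_⟩
  exact HasLiftingProperty.of_arrow_iso_left
    (Arrow.isoMk (Iso.refl _) (Subobject.underlyingIso (pullback.fst π ι)).symm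
      (by simp [← cancel_mono N'.arrow, N', hl]) : Arrow.mk l ≅ Arrow.mk (N.ofLE N' hle)) _

include hG hJ hZ in
open Classical in
/-- The criterion: null-homotopy on the small family implies null-homotopy on all acyclic
complexes. -/
theorem nonempty_homotopy_zero_of_family (f : Z ⟶ J⟦(1 : ℤ)⟧) : Nonempty (Homotopy f 0) := by
  let larger : Subobject Z → Subobject Z := fun N =>
    if h : HomologicalComplex.Acyclic (N : CochainComplex A ℤ) ∧ N ≠ ⊤ then
      (exists_larger_acyclic hG hJ hZ N h.1 h.2).choose else ⊤
  have hlt : ∀ N : Subobject Z, N ≠ ⊤ → N < larger N := fun N hN => by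
    by_cases h : HomologicalComplex.Acyclic (N : CochainComplex A ℤ)
    · simp only [larger, dif_pos (And.intro h hN)]
      exact (exists_larger_acyclic hG hJ hZ N h hN).choose_spec.choose
    · have e : larger N = ⊤ := dif_neg fun h' => h h'.1
      rw [e]; exact lt_top_iff_ne_top.2 hN
  have htop : larger ⊤ = ⊤ := dif_neg fun h => h.2 rfl
  have hle : ∀ N : Subobject Z, N ≤ larger N := fun N => by
    by_cases hN : N = ⊤
    · rw [hN, htop]
    · exact (hlt N hN).le
  have hLP : ∀ N : Subobject Z, HomologicalComplex.Acyclic (N : CochainComplex A ℤ) →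
      HomologicalComplex.Acyclic (larger N : CochainComplex A ℤ) ∧
      HasLiftingProperty (N.ofLE _ (hle N)) (pathFib J) := fun N h => by
    by_cases hN : N = ⊤
    · have e : larger N = N := by rw [hN, htop]
      refine ⟨by rw [e]; exact h, ?_⟩
      have : IsIso (N.ofLE _ (hle N)) := ⟨(larger N).ofLE N e.le, by simp, by simp⟩
      infer_instance
    · have e : larger N = (exists_larger_acyclic hG hJ hZ N h hN).choose := dif_pos ⟨h, hN⟩
      obtain ⟨hlt', hac, hlp⟩ := (exists_larger_acyclic hG hJ hZ N h hN).choose_spec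
      refine ⟨by rw [e]; exact hac, ?_⟩
      convert hlp using 2 <;> rw [e]
  obtain ⟨κ, hκ', hκ⟩ := HasCardinalLT.exists_regular_cardinal.{v} (Subobject Z)
  have : Fact κ.IsRegular := ⟨hκ'⟩
  have : Nonempty κ.ord.ToType := by simpa using hκ'.ne_zero
  have := WellFoundedLT.toOrderBot κ.ord.ToType
  let it : κ.ord.ToType → Subobject Z := fun j => transfiniteIterate larger j ⊥
  have hmono : Monotone it := monotone_transfiniteIterate _ _ hle
  let M : κ.ord.ToType ⥤ MonoOver Z :=
    { obj := fun j => MonoOver.mk (it j).arrow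
      map := fun f => MonoOver.homMk (Subobject.ofLE _ _ (hmono (leOfHom f))) }
  let F : κ.ord.ToType ⥤ CochainComplex A ℤ := M ⋙ MonoOver.forget _ ⋙ Over.forget _
  have hcont : F.IsWellOrderContinuous := ⟨fun m hm => ⟨by
    have := hm.nonempty_Iio.to_subtype
    let c := (Set.principalSegIio m).cocone (M ⋙ MonoOver.forget _)
    have : Mono c.pt.hom := inferInstanceAs (Mono (it m).arrow)
    apply IsGrothendieckAbelian.isColimitMapCoconeOfSubobjectMkEqISup
      ((Set.principalSegIio m).monotone.functor ⋙ M) c
    show Subobject.mk (it m).arrow = ⨆ j : Set.Iio m, Subobject.mk (it j.1).arrow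
    simp only [Subobject.mk_arrow]
    exact transfiniteIterate_limit larger _ m hm⟩⟩
  have hac : ∀ j, HomologicalComplex.Acyclic (it j : CochainComplex A ℤ) := by
    intro j
    induction j using SuccOrder.limitRecOn with
    | isMin j hj =>
      obtain rfl := hj.eq_bot
      simp only [it, transfiniteIterate_bot]
      exact acyclic_of_isZero (IsZero.of_iso (isZero_zero _) Subobject.botCoeIsoZero)
    | succ j hj ih =>
      simp only [it, transfiniteIterate_succ _ _ _ hj]
      exact (hLP _ ih).1
    | isSuccLimit j hj ih =>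
      have := hj.nonempty_Iio.to_subtype
      exact acyclic_of_isColimit (F.isColimitOfIsWellOrderContinuous j hj)
        fun k => ih k.1 k.2
  obtain ⟨j₀, hj₀⟩ := top_mem_range_transfiniteIterate larger (⊥ : Subobject Z) (J := κ.ord.ToType)
    hlt htop (fun hinj => by
      have := hκ.of_injective _ hinj
      simpa [hasCardinalLT_iff_cardinal_mk_lt] using this)
  let c : Cocone (M ⋙ MonoOver.forget _) :=
    { pt := Over.mk (𝟙 Z)
      ι := { app := fun j => Over.homMk (it j).arrow } }
  have : Mono c.pt.hom := inferInstanceAs (Mono (𝟙 Z))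
  have hc : IsColimit ((Over.forget _).mapCocone c) := by
    apply IsGrothendieckAbelian.isColimitMapCoconeOfSubobjectMkEqISup M c
    show Subobject.mk (𝟙 Z) = ⨆ j, Subobject.mk (it j).arrow
    refine le_antisymm (le_trans ?_ (le_iSup _ j₀)) (Subobject.top_eq_id Z ▸ le_top)
    rw [Subobject.mk_arrow, show it j₀ = ⊤ from hj₀]
    exact le_top
  have : ((M ⋙ MonoOver.forget Z) ⋙ Over.forget Z).IsWellOrderContinuous := hcont
  have hbot : HasLiftingProperty (((Over.forget _).mapCocone c).ι.app ⊥) (pathFib J) := by
    refine HasLiftingProperty.transfiniteComposition.hasLiftingProperty_ι_app_bot hc fun j hj => ?_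
    have e : it (Order.succ j) = larger (it j) := transfiniteIterate_succ _ _ _ hj
    show HasLiftingProperty ((it j).ofLE (it (Order.succ j)) _) _
    convert (hLP _ (hac j)).2 using 2 <;> rw [e]
  have hz : IsZero (it ⊥ : CochainComplex A ℤ) := by
    simp only [it, transfiniteIterate_bot]
    exact IsZero.of_iso (isZero_zero _) Subobject.botCoeIsoZero
  have sq : CommSq (0 : (it ⊥ : CochainComplex A ℤ) ⟶ mappingCone (𝟙 J)) (it ⊥).arrow
      (pathFib J) f := ⟨hz.eq_of_src _ _⟩
  have : sq.HasLift := hbot.sq_hasLift sq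
  exact homotopy_of_lift sq.lift sq.fac_right

end GrothLib.KInj
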