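import Mathlib.Algebra.Homology.ModelCategory.Lifting
import Mathlib.Algebra.Homology.HomotopyCategory.KInjective
import Mathlib.Algebra.Homology.HomotopyCategory.Pretriangulated
import Mathlib.Algebra.Homology.HomologySequenceLemmas
import Mathlib.CategoryTheory.Preadditive.Injective.LiftingProperties
import Mathlib.Algebra.Homology.Double

/-! # Lifting properties against the path fibration of a complex of injectives -/

universe v u

open CategoryTheory CategoryTheory.Limits HomologicalComplex CochainComplex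
open CochainComplex.HomComplex

namespace GrothLib.KInj

variable {A : Type u} [Category.{v} A] [Abelian A]

/-- The path fibration `cone (𝟙 J) ⟶ J⟦1⟧`. -/
noncomputable def pathFib (J : CochainComplex A ℤ) :
    mappingCone (𝟙 J) ⟶ J⟦(1 : ℤ)⟧ :=
  (mappingCone.triangle (𝟙 J)).mor₃

lemma pathFib_shortExact (J : CochainComplex A ℤ) :
    (mappingCone.triangleRotateShortComplex (𝟙 J)).ShortExact :=
  shortExact_of_degreewise_shortExact _
    fun n => (mappingCone.triangleRotateShortComplexSplitting (𝟙 J) n).shortExact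

lemma hasLift_eval_pathFib {J : CochainComplex A ℤ} [∀ n, Injective (J.X n)] (n : ℤ) {M N : A}
    (i : M ⟶ N) [Mono i] : HasLiftingProperty i ((pathFib J).f n) where
  sq_hasLift {t b} sq := by
    let σ := mappingCone.triangleRotateShortComplexSplitting (𝟙 J) n
    let r : (mappingCone (𝟙 J)).X n ⟶ J.X n := σ.r
    let s : (J⟦(1 : ℤ)⟧).X n ⟶ (mappingCone (𝟙 J)).X n := σ.s
    have hs : s ≫ (pathFib J).f n = 𝟙 _ := σ.s_g
    have hrd : r ≫ (mappingCone.inr (𝟙 J)).f n + (pathFib J).f n ≫ s = 𝟙 _ := σ.id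
    have h0 : (mappingCone.inr (𝟙 J)).f n ≫ (pathFib J).f n = 0 :=
      (mappingCone.triangleRotateShortComplex (𝟙 J)).map (eval _ _ n) |>.zero
    let l : N ⟶ J.X n := Injective.factorThru (t ≫ r) i
    refine ⟨⟨{ l := l ≫ (mappingCone.inr (𝟙 J)).f n + b ≫ s
               fac_left := ?_, fac_right := ?_ }⟩⟩
    · rw [Preadditive.comp_add, Injective.comp_factorThru_assoc, ← Category.assoc i b,
        ← sq.w, Category.assoc, Category.assoc, ← Preadditive.comp_add, hrd, Category.comp_id]
    · rw [Preadditive.add_comp, Category.assoc, h0, comp_zero, zero_add, Category.assoc, hs,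
        Category.comp_id]

/-- A monomorphism has the left lifting property w.r.t. the path fibration of a complex of
injectives `J` if all morphisms from its cokernel to `J⟦1⟧` are nullhomotopic. -/
lemma hasLift_pathFib {J : CochainComplex A ℤ} [∀ n, Injective (J.X n)]
    {X Y : CochainComplex A ℤ} (i : X ⟶ Y) [Mono i] {Q : CochainComplex A ℤ} (π : Y ⟶ Q)
    (hπ : i ≫ π = 0) (hQ : IsColimit (CokernelCofork.ofπ π hπ))
    (h : ∀ f : Q ⟶ J⟦(1 : ℤ)⟧, Nonempty (Homotopy f 0)) :
    HasLiftingProperty i (pathFib J) where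
  sq_hasLift {t b} sq := by
    have hsq : ∀ n, (sq.map (eval _ _ n)).HasLift := fun n => by
      have : Mono (i.f n) := inferInstanceAs (Mono ((eval _ _ n).map i))
      have := hasLift_eval_pathFib (J := J) n (i.f n)
      exact this.sq_hasLift (sq.map (eval _ _ n))
    let hsq' : ∀ n, (sq.map (eval _ _ n)).LiftStruct := fun n => (hsq n).exists_lift.some
    let z : Cocycle Q J 1 := Lifting.cocycle₁ sq hsq' hQ (pathFib_shortExact J).fIsKernel
    obtain ⟨φ, hφ⟩ := (Cocycle.equivHom ..).surjective (z.rightShift 1 0 (zero_add 1))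
    rw [Cocycle.ext_iff] at hφ
    change Cochain.ofHom φ = z.1.rightShift 1 0 (zero_add 1) at hφ
    obtain ⟨H⟩ := h φ
    obtain ⟨f, hf⟩ := Cochain.equivHomotopy _ _ H
    simp only [Int.reduceNeg, Cochain.ofHom_zero, add_zero] at hf
    let α : Cochain Q J 0 := (1 : ℤ).negOnePow • Cochain.rightUnshift f 0 (by lia)
    suffices hα : δ 0 1 α = z.1 from
      Lifting.hasLift sq hsq' hQ (pathFib_shortExact J).fIsKernel α hα
    apply (Cochain.rightShiftAddEquiv _ _ _ 1 0 (by simp)).injective
    change (δ 0 1 α).rightShift 1 0 (zero_add 1) = z.1.rightShift 1 0 (zero_add 1)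
    dsimp only [α]
    rw [← hφ, hf, δ_units_smul, Cochain.rightShift_units_smul,
      Cochain.δ_rightUnshift _ _ _ _ 0 (by simp)]
    simp

/-- A morphism to `J⟦1⟧` lifting through the path fibration is nullhomotopic. -/
lemma homotopy_of_lift {J Z : CochainComplex A ℤ}
    {f : Z ⟶ J⟦(1 : ℤ)⟧}
    (l : Z ⟶ mappingCone (𝟙 J)) (hl : l ≫ pathFib J = f) : Nonempty (Homotopy f 0) :=
  ⟨(Homotopy.ofEq (by rw [Category.id_comp, hl] : f = l ≫ 𝟙 _ ≫ pathFib J)).trans
    ((((mappingCone.homotopyToZeroOfId J).compRight (pathFib J)).compLeft l).trans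
      (Homotopy.ofEq (by simp)))⟩

/-- A nullhomotopic morphism to `J⟦1⟧` lifts through the path fibration. -/
lemma exists_lift_of_homotopy {J Z : CochainComplex A ℤ}
    (f : Z ⟶ J⟦(1 : ℤ)⟧) (h : Homotopy f 0) :
    ∃ l : Z ⟶ mappingCone (𝟙 J), l ≫ pathFib J = f := by
  obtain ⟨g, hg⟩ := Cochain.equivHomotopy _ _ h
  simp only [Int.reduceNeg, Cochain.ofHom_zero, add_zero] at hg
  let z := Cocycle.equivHomShift f
  let β : Cochain Z J 0 := (1 : ℤ).negOnePow • Cochain.rightUnshift g 0 (by lia)
  have hz : z.1.rightShift 1 0 (zero_add 1) = Cochain.ofHom f := by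
    simp [z, Cocycle.equivHomShift_apply]
  have hβ : δ 0 1 β = z.1 := by
    apply (Cochain.rightShiftAddEquiv _ _ _ 1 0 (by simp)).injective
    change (δ 0 1 β).rightShift 1 0 (zero_add 1) = z.1.rightShift 1 0 (zero_add 1)
    rw [hz, hg, δ_units_smul, Cochain.rightShift_units_smul,
      Cochain.δ_rightUnshift _ _ _ _ 0 (by simp)]
    simp
  refine ⟨mappingCone.lift (𝟙 J) (-z) β (by simp [hβ]), ?_⟩
  ext n
  have hn := Cochain.congr_v hz n n (add_zero n)
  rw [Cochain.rightShift_v _ 1 0 _ n n (add_zero n) (n + 1) rfl, Cochain.ofHom_v] at hn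
  simp [mappingCone.lift_f (𝟙 J) _ _ _ n (n + 1) rfl, pathFib, ← hn, HomologicalComplex.XIsoOfEq_rfl]
  erw [mappingCone.inl_v_triangle_mor₃_f, mappingCone.inr_f_triangle_mor₃_f]
  refine (congrArg (_ + ·) comp_zero).trans ((add_zero _).trans ?_)
  refine (congrArg Neg.neg (Preadditive.comp_neg (P := Z.X n) (z.1.v n (n + 1) rfl) _)).trans ?_
  exact neg_neg _

end GrothLib.KInj
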