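import Mathlib.Algebra.Homology.HomologicalComplexAbelian
import Mathlib.Algebra.Homology.ShortComplex.ExactFunctor
import Mathlib.Algebra.Homology.QuasiIso
import Mathlib.CategoryTheory.Abelian.GrothendieckCategory.Basic
import Mathlib.CategoryTheory.Abelian.Refinements
import Mathlib.CategoryTheory.Generator.Abelian
import Mathlib.CategoryTheory.Subobject.Limits

/-! # Small acyclic subcomplexes of acyclic complexes

In a Grothendieck abelian category every acyclic complex which is nonzero contains a nonzero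
acyclic subcomplex whose terms are quotients of a small set of objects.
-/

universe v u

open CategoryTheory CategoryTheory.Limits HomologicalComplex

namespace GrothLib.KInj

variable {A : Type u} [Category.{v} A] [Abelian A] [IsGrothendieckAbelian.{v} A] {G : A}

/-- The index of a bounded family of maps out of the generator, covering a subobject of `T`. -/
noncomputable abbrev covObj (G T : A) : A :=
  ∐ fun _ : Shrink.{v} (Subobject T) => G

/-- Bounded covers: if `P ⟶ K` is an epimorphism and `K` is a subobject of `T`, a family of maps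
`G ⟶ P` indexed by the subobjects of `T` already covers `K`. -/
lemma exists_small_cover (hG : IsSeparator G) {T K P : A} (ι : K ⟶ T) [Mono ι] (p : P ⟶ K)
    [Epi p] : ∃ h : covObj G T ⟶ P, Epi (h ≫ p) := by
  classical
  let φ : (G ⟶ P) → Subobject T := fun g => (Subobject.map ι).obj (imageSubobject (g ≫ p))
  let g : Shrink.{v} (Subobject T) → (G ⟶ P) := fun N =>
    if hN : ∃ g : G ⟶ P, φ g = (equivShrink _).symm N then hN.choose else 0
  refine ⟨Sigma.desc g, Preadditive.epi_of_cancel_zero _ fun {Y} π hπ => ?_⟩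
  rw [← cancel_epi p, comp_zero]
  refine hG.def _ _ fun g₀ => ?_
  rw [comp_zero]
  let N := equivShrink.{v} _ (φ g₀)
  have hN : ∃ g : G ⟶ P, φ g = (equivShrink _).symm N := ⟨g₀, by simp [N]⟩
  have hg : φ (g N) = φ g₀ := by
    simp only [g, dif_pos hN]
    exact hN.choose_spec.trans (by simp [N])
  have h0 : g N ≫ p ≫ π = 0 := by
    have := congrArg (Sigma.ι (fun _ : Shrink.{v} (Subobject T) => G) N ≫ ·) hπ
    simpa [g] using this
  let g₁ := g N ≫ p
  let g₂ := g₀ ≫ p
  have hle : imageSubobject g₂ ≤ imageSubobject g₁ :=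
    le_of_eq (Subobject.map_obj_injective ι hg.symm)
  have hk : (imageSubobject g₁).arrow ≫ π = 0 := by
    rw [← cancel_epi (factorThruImageSubobject g₁), imageSubobject_arrow_comp_assoc, comp_zero]
    simpa [g₁] using h0
  calc g₀ ≫ p ≫ π = g₂ ≫ π := (Category.assoc _ _ _).symm
    _ = factorThruImageSubobject g₂ ≫ Subobject.ofLE _ _ hle ≫ (imageSubobject g₁).arrow ≫ π := by
      simp
    _ = 0 := by simp [hk]

lemma epi_factorThruImageSubobject' {X Y : A} (f : X ⟶ Y) : Epi (factorThruImageSubobject f) := by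
  rw [factorThruImageSubobject]; infer_instance

variable (G) in
/-- The objects used to bound small acyclic complexes. -/
noncomputable def T : ℕ → A
  | 0 => G
  | n + 1 => covObj G (T n)

variable (G) in
/-- An object is good if it is a quotient of some `T G k`, or is zero. -/
def Good (X : A) : Prop := IsZero X ∨ ∃ (k : ℕ) (q : T G k ⟶ X), Epi q

variable {Z : CochainComplex A ℤ}

/-- The step of the construction, going down one degree. -/
lemma exists_next (hG : IsSeparator G) (hZ : Z.Acyclic) (i j : ℤ) (hij : i + 1 = j)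
    (N : Subobject (Z.X j)) (hN : Good G (N : A)) :
    ∃ N' : Subobject (Z.X i), Good G (N' : A) ∧ N.Factors (N'.arrow ≫ Z.d i j) ∧
      ∀ ⦃B : A⦄ (x : B ⟶ Z.X j), N.Factors x → x ≫ Z.d j (j + 1) = 0 →
        ∃ (B' : A) (π : B' ⟶ B) (_ : Epi π) (y : B' ⟶ Z.X i),
          N'.Factors y ∧ π ≫ x = y ≫ Z.d i j := by
  rcases hN with hN | ⟨k, q, hq⟩
  · refine ⟨⊥, Or.inl (IsZero.of_iso (isZero_zero A) Subobject.botCoeIsoZero), ?_, fun B x hx _ =>
      ⟨B, 𝟙 B, inferInstance, 0, Subobject.factors_zero, ?_⟩⟩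
    · simp [Subobject.bot_arrow, Subobject.factors_zero]
    · rw [← Subobject.factorThru_arrow N x hx, hN.eq_zero_of_tgt (N.factorThru x hx)]
      simp
  · let t := q ≫ N.arrow
    let c := kernel.ι (t ≫ Z.d j (j + 1))
    have hex : (ShortComplex.mk (Z.d i j) (Z.d j (j + 1)) (Z.d_comp_d i j (j + 1))).Exact :=
      (Z.exactAt_iff' i j (j + 1) (by simp; omega) (by simp)).1 (hZ j)
    have hct : (c ≫ t) ≫ Z.d j (j + 1) = 0 := by
      exact (Category.assoc _ _ _).trans (kernel.condition _)
    let p := pullback.snd (Z.d i j) (c ≫ t)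
    have : Epi p := by
      rw [epi_iff_surjective_up_to_refinements]
      intro B a
      obtain ⟨B', π, hπ, y, hy⟩ := hex.exact_up_to_refinements (a ≫ c ≫ t)
        (by rw [Category.assoc, hct, comp_zero])
      exact ⟨B', π, hπ, pullback.lift y (π ≫ a) (by simpa using hy.symm),
        (pullback.lift_snd _ _ _).symm⟩
    obtain ⟨h, hh⟩ := exists_small_cover hG c p
    let a := h ≫ pullback.fst (Z.d i j) (c ≫ t)
    have ha : a ≫ Z.d i j = ((h ≫ p) ≫ c ≫ q) ≫ N.arrow := by
      simp [a, p, t, pullback.condition]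
    have ea : Epi (factorThruImageSubobject a) := epi_factorThruImageSubobject' a
    have : StrongEpi (factorThruImageSubobject a) := strongEpi_of_epi _
    refine ⟨imageSubobject a, Or.inr ⟨k + 1, factorThruImageSubobject a, ea⟩, ?_, ?_⟩
    · have h1 : N.Factors (factorThruImageSubobject a ≫ (imageSubobject a).arrow ≫ Z.d i j) := by
        rw [imageSubobject_arrow_comp_assoc, ha]
        exact Subobject.factors_comp_arrow _
      rw [Subobject.factors_iff]
      have sq : CommSq (N.factorThru _ h1) (factorThruImageSubobject a) N.arrow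
          ((imageSubobject a).arrow ≫ Z.d i j) := ⟨by simp⟩
      exact ⟨sq.lift, sq.fac_right⟩
    · intro B x hx hxd
      obtain ⟨B₁, π₁, hπ₁, u, hu⟩ := surjective_up_to_refinements_of_epi q (N.factorThru x hx)
      have hux : π₁ ≫ x = u ≫ t := by
        rw [← Category.assoc u q, ← hu, Category.assoc, Subobject.factorThru_arrow]
      have hu0 : u ≫ t ≫ Z.d j (j + 1) = 0 := by
        rw [← Category.assoc, ← hux, Category.assoc, hxd, comp_zero]
      obtain ⟨B₂, π₂, hπ₂, w, hw⟩ :=
        surjective_up_to_refinements_of_epi (h ≫ p) (kernel.lift _ u hu0)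
      refine ⟨B₂, π₂ ≫ π₁, epi_comp _ _, w ≫ a, ?_, ?_⟩
      · rw [Subobject.factors_iff]
        exact ⟨w ≫ factorThruImageSubobject a, by simp⟩
      · rw [Category.assoc, hux, Category.assoc, ha]
        have := congrArg (· ≫ c ≫ t) hw
        simpa [c, t] using this

/-- The subcomplex given by a family of subobjects stable under the differential. -/
@[simps]
noncomputable def subcomplex (Z : CochainComplex A ℤ) (L : ∀ n, Subobject (Z.X n))
    (hL : ∀ n m, (L m).Factors ((L n).arrow ≫ Z.d n m)) : CochainComplex A ℤ where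
  X n := L n
  d n m := (L m).factorThru _ (hL n m)
  shape n m h := by
    ext
    simp [Z.shape n m h]
  d_comp_d' n m l _ _ := by
    ext
    simp

/-- The inclusion of a subcomplex. -/
@[simps]
noncomputable def subcomplexι (Z : CochainComplex A ℤ) (L : ∀ n, Subobject (Z.X n))
    (hL : ∀ n m, (L m).Factors ((L n).arrow ≫ Z.d n m)) : subcomplex Z L hL ⟶ Z where
  f n := (L n).arrow
  comm' n m _ := (Subobject.factorThru_arrow (L m) _ (hL n m)).symm

instance (Z : CochainComplex A ℤ) (L : ∀ n, Subobject (Z.X n))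
    (hL : ∀ n m, (L m).Factors ((L n).arrow ≫ Z.d n m)) : Mono (subcomplexι Z L hL) :=
  HomologicalComplex.mono_of_mono_f _ fun n => inferInstanceAs (Mono (L n).arrow)

open Classical in
/-- A nonzero acyclic complex contains a nonzero acyclic subcomplex with good terms. -/
lemma exists_small_acyclic_sub (hG : IsSeparator G) (Z : CochainComplex A ℤ) (hZ : Z.Acyclic)
    (h0 : ¬ IsZero Z) :
    ∃ (S : CochainComplex A ℤ) (ι : S ⟶ Z), Mono ι ∧ S.Acyclic ∧ ¬ IsZero S ∧
      ∀ n, Good G (S.X n) := by
  obtain ⟨m, g, hg⟩ : ∃ (m : ℤ) (g : G ⟶ Z.X m), g ≠ 0 := by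
    by_contra! H
    refine h0 ((IsZero.iff_id_eq_zero _).2 ?_)
    ext n
    exact hG.def _ _ fun g => by simp [H n g]
  let next : ∀ n : ℤ, Subobject (Z.X (n + 1)) → Subobject (Z.X n) := fun n N =>
    if hN : Good G (N : A) then (exists_next hG hZ n (n + 1) rfl N hN).choose else ⊥
  let F0 : ∀ n : ℤ, Subobject (Z.X n) :=
    Function.update (β := fun n : ℤ => Subobject (Z.X n)) (fun n => (⊥ : Subobject (Z.X n))) m
      (imageSubobject g)
  let F : ℕ → ∀ n : ℤ, Subobject (Z.X n) := fun k => Nat.rec (motive := fun _ => ∀ n : ℤ, Subobject (Z.X n))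
    F0 (fun _ F n => next n (F (n + 1))) k
  have hnx : ∀ n N (hN : Good G (Subobject.underlying.obj N)),
      next n N = (exists_next hG hZ n (n + 1) rfl N hN).choose := fun n N hN => dif_pos hN
  have hF0 : F 0 m = imageSubobject g :=
    Function.update_self (β := fun n => Subobject (Z.X n)) _ _ _
  have hF0' : ∀ n, n ≠ m → F 0 n = ⊥ := fun n hn =>
    Function.update_of_ne (β := fun n => Subobject (Z.X n)) hn _ _
  have hFs : ∀ k n, F (k + 1) n = next n (F k (n + 1)) := fun k n => rfl
  have hgood : ∀ (k : ℕ) (n : ℤ), Good G (Subobject.underlying.obj (F k n)) := fun k => by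
    induction k with
    | zero =>
      intro n
      by_cases hn : n = m
      · subst hn
        rw [hF0]
        exact Or.inr ⟨0, factorThruImageSubobject g, epi_factorThruImageSubobject' g⟩
      · rw [hF0' n hn]
        exact Or.inl (IsZero.of_iso (isZero_zero A) Subobject.botCoeIsoZero)
    | succ k ih =>
      intro n
      rw [hFs, hnx _ _ (ih (n + 1))]
      exact (exists_next hG hZ n (n + 1) rfl _ (ih (n + 1))).choose_spec.1
  have hnext : ∀ k n, (F k (n + 1)).Factors ((F (k + 1) n).arrow ≫ Z.d n (n + 1)) ∧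
      ∀ ⦃B : A⦄ (x : B ⟶ Z.X (n + 1)), (F k (n + 1)).Factors x → x ≫ Z.d _ (n + 1 + 1) = 0 →
        ∃ (B' : A) (π : B' ⟶ B) (_ : Epi π) (y : B' ⟶ Z.X n),
          (F (k + 1) n).Factors y ∧ π ≫ x = y ≫ Z.d n (n + 1) := fun k n => by
    rw [hFs, hnx _ _ (hgood k (n + 1))]
    exact (exists_next hG hZ n (n + 1) rfl _ (hgood k (n + 1))).choose_spec.2
  let top : ∀ n : ℤ, Subobject (Z.X n) := fun n => imageSubobject ((F 0 (n - 1)).arrow ≫ Z.d (n - 1) n)
  let L : ∀ n : ℤ, Subobject (Z.X n) := fun n =>
    if n ≤ m then F (m - n).toNat n else if n = m + 1 then top n else ⊥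
  have hLlo : ∀ n, n ≤ m → L n = F (m - n).toNat n := fun n h => if_pos h
  have hLtop : L (m + 1) = top (m + 1) := by simp [L]
  have hLhi : ∀ n, m + 1 < n → L n = ⊥ := fun n h => by
    simp only [L]
    rw [if_neg (by omega), if_neg (by omega)]
  have hgoodL : ∀ n : ℤ, Good G (Subobject.underlying.obj (L n)) := fun n => by
    rcases lt_trichotomy n (m + 1) with h | h | h
    · rw [hLlo n (by omega)]; exact hgood _ _
    · subst h
      rw [hLtop]
      rcases hgood 0 (m + 1 - 1) with hz | ⟨k, q, hq⟩
      · exact Or.inl (IsZero.of_epi (factorThruImageSubobject _) hz)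
      · exact Or.inr ⟨k, q ≫ factorThruImageSubobject _, epi_comp _ _⟩
    · rw [hLhi n h]; exact Or.inl (IsZero.of_iso (isZero_zero A) Subobject.botCoeIsoZero)
  have hlow : ∀ n, n < m → ∀ a, a = (m - (n + 1)).toNat →
      L (n + 1) = F a (n + 1) ∧ L n = F (a + 1) n := fun n hn a ha => by
    rw [hLlo _ (by omega), hLlo _ (by omega), ha, show (m - n).toNat = (m - (n + 1)).toNat + 1 by omega]
    exact ⟨rfl, rfl⟩
  have hd : ∀ n, (L (n + 1)).Factors ((L n).arrow ≫ Z.d n (n + 1)) := fun n => by
    rcases lt_trichotomy n m with h | h | h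
    · obtain ⟨e1, e2⟩ := hlow n h _ rfl
      rw [e1, e2]
      exact (hnext _ n).1
    · subst h
      rw [hLtop, hLlo _ le_rfl, sub_self]
      have e : ∀ a b : ℤ, a = b → (imageSubobject ((F 0 a).arrow ≫ Z.d a (n + 1))).Factors
          ((F 0 b).arrow ≫ Z.d b (n + 1)) := by
        rintro a _ rfl
        rw [Subobject.factors_iff]
        exact ⟨factorThruImageSubobject _, imageSubobject_arrow_comp _⟩
      exact e (n + 1 - 1) n (by omega)
    · rcases hgoodL n with hz | _
      · rw [hz.eq_zero_of_src (L n).arrow, zero_comp]; exact Subobject.factors_zero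
      · rcases eq_or_lt_of_le (show m + 1 ≤ n by omega) with rfl | h'
        · rw [hLtop]
          have : (top (m + 1)).arrow ≫ Z.d (m + 1) (m + 1 + 1) = 0 := by
            rw [← cancel_epi (factorThruImageSubobject _), imageSubobject_arrow_comp_assoc]
            simp
          rw [this]; exact Subobject.factors_zero
        · rw [hLhi n h', Subobject.bot_arrow, zero_comp]; exact Subobject.factors_zero
  have hd' : ∀ n k, (L k).Factors ((L n).arrow ≫ Z.d n k) := fun n k => by
    by_cases h : n + 1 = k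
    · subst h; exact hd n
    · rw [Z.shape n k (by simpa using h), comp_zero]; exact Subobject.factors_zero
  have hC : ∀ n ⦃B : A⦄ (x : B ⟶ Z.X (n + 1)), (L (n + 1)).Factors x →
      x ≫ Z.d _ (n + 1 + 1) = 0 → ∃ (B' : A) (π : B' ⟶ B) (_ : Epi π) (y : B' ⟶ Z.X n),
        (L n).Factors y ∧ π ≫ x = y ≫ Z.d n (n + 1) := fun n B x hx hxd => by
    rcases lt_trichotomy n m with h | h | h
    · obtain ⟨e1, e2⟩ := hlow n h _ rfl
      rw [e2]
      exact (hnext _ n).2 x (e1 ▸ hx) hxd
    · subst h
      rw [hLlo _ le_rfl, sub_self]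
      rw [hLtop] at hx
      have e : ∀ a b : ℤ, a = b → (imageSubobject ((F 0 a).arrow ≫ Z.d a (n + 1))).Factors x →
          ∃ (B' : A) (π : B' ⟶ B) (_ : Epi π) (y : B' ⟶ Z.X b),
            (F 0 b).Factors y ∧ π ≫ x = y ≫ Z.d b (n + 1) := by
        rintro a _ rfl hx
        obtain ⟨B', π, hπ, y, hy⟩ := surjective_up_to_refinements_of_epi
          (factorThruImageSubobject ((F 0 a).arrow ≫ Z.d a (n + 1))) (Subobject.factorThru _ x hx)
        refine ⟨B', π, hπ, y ≫ (F 0 a).arrow, Subobject.factors_comp_arrow _, ?_⟩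
        have := congrArg (· ≫ Subobject.arrow _) hy
        simpa using this
      exact e (n + 1 - 1) n (by omega) hx
    · rw [hLhi (n + 1) (by omega)] at hx
      rw [Subobject.bot_factors_iff_zero] at hx
      exact ⟨B, 𝟙 B, inferInstance, 0, Subobject.factors_zero, by simp [hx]⟩
  refine ⟨subcomplex Z L hd', subcomplexι Z L hd', inferInstance, fun n => ?_, fun hS => hg ?_,
    hgoodL⟩
  · obtain ⟨n, rfl⟩ : ∃ n', n' + 1 = n := ⟨n - 1, by omega⟩
    rw [HomologicalComplex.exactAt_iff' _ n (n + 1) (n + 1 + 1) (by simp) (by simp),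
      ShortComplex.exact_iff_exact_up_to_refinements]
    intro B x hx
    change B ⟶ (L (n + 1) : A) at x
    have hx' : (x ≫ (L (n + 1)).arrow) ≫ Z.d _ (n + 1 + 1) = 0 := by
      have hx2 : x ≫ (L (n + 1 + 1)).factorThru _ (hd' (n + 1) (n + 1 + 1)) = 0 := hx
      have := congrArg (· ≫ (L (n + 1 + 1)).arrow) hx2
      simpa using this
    obtain ⟨B', π, hπ, y, hy, he⟩ := hC n _ (Subobject.factors_comp_arrow x) hx'
    refine ⟨B', π, hπ, (L n).factorThru y hy, ?_⟩
    show π ≫ x = (L n).factorThru y hy ≫ (L (n + 1)).factorThru _ (hd' n (n + 1))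
    ext
    simpa using he
  · have : IsZero (Subobject.underlying.obj (F 0 m)) := by
      have := (HomologicalComplex.eval A (ComplexShape.up ℤ) m).map_isZero hS
      simpa [hLlo m le_rfl] using this
    rw [← imageSubobject_arrow_comp g]
    rw [hF0] at this
    rw [this.eq_zero_of_src (imageSubobject g).arrow, comp_zero]

end GrothLib.KInj
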